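import Cfsg.Agent.Spor.J4T.D0

set_option autoImplicit false
set_option maxRecDepth 100000000
set_option Elab.async false

namespace Cfsg.Agent.Spor.J4T

theorem ok0 : Net.okb 11 n0 = true := by decide +kernel

theorem ok1 : Net.okb 11 n1 = true := by decide +kernel

theorem ok2 : Net.okb 11 n2 = true := by decide +kernel

theorem rel0 : T.rel 11 [1, 1] 0 11 = true := by decide +kernel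

theorem rel1 : T.rel 11 [2, 2, 2] 0 11 = true := by decide +kernel

theorem rel2 : T.rel 11 [2, 1, 2, 1, 2, 1, 2, 1, 2, 1, 2, 1, 2, 1, 2, 1, 2, 1, 2, 1, 2, 1, 2, 1, 2, 1, 2, 1, 2, 1, 2, 1, 2, 1, 2, 1, 2, 1, 2, 1, 2, 1, 2, 1, 2, 1] 0 11 = true := by decide +kernel

theorem rel3 : T.rel 11 [2, 1, 5, 4, 2, 1, 5, 4, 2, 1, 5, 4, 2, 1, 5, 4, 2, 1, 5, 4, 2, 1, 5, 4, 2, 1, 5, 4, 2, 1, 5, 4, 2, 1, 5, 4, 2, 1, 5, 4, 2, 1, 5, 4, 2, 1, 5, 4] 0 11 = true := by decide +kernel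

theorem rel4 : T.rel 11 [2, 1, 2, 1, 5, 4, 5, 4, 2, 1, 2, 1, 5, 4, 5, 4, 2, 1, 2, 1, 5, 4, 5, 4, 2, 1, 2, 1, 5, 4, 5, 4, 2, 1, 2, 1, 5, 4, 5, 4] 0 11 = true := by decide +kernel

theorem rel5 : T.rel 11 [5, 1, 2, 1, 5, 1, 2, 1, 5, 1, 2, 1, 2, 1, 5, 1, 2, 1, 5, 1, 2, 1, 5, 1, 2, 1, 2, 1, 5, 1, 2, 1, 5, 1, 2, 1, 5, 1, 2, 1, 2, 1, 5, 1, 2, 1, 5, 1, 2, 1, 5, 1, 2, 1, 2, 1] 0 11 = true := by decide +kernel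

theorem rel6 : T.rel 11 [5, 1, 5, 1, 2, 1, 5, 1, 5, 1, 2, 1, 5, 1, 5, 1, 2, 1, 5, 1, 2, 1, 2, 1, 5, 1, 2, 1, 2, 1, 5, 1, 2, 1, 2, 1] 0 11 = true := by decide +kernel

theorem rel7 : T.rel 11 [3, 3] 0 11 = true := by decide +kernel

theorem rel8 : T.rel 11 [2, 3, 5, 6] 0 11 = true := by decide +kernel

theorem rel9 : T.rel 11 [1, 2, 1, 2, 1, 2, 1, 5, 1, 5, 1, 2, 4, 2, 4, 5, 4, 5, 4, 5, 4, 3, 1, 2, 1, 2, 1, 2, 1, 5, 1, 5, 4, 2, 4, 2, 4, 5, 4, 5, 4, 5, 4, 6] 0 11 = true := by decide +kernel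

theorem rel10 : T.rel 11 [1, 5, 1, 2, 1, 2, 1, 2, 1, 2, 1, 5, 4, 5, 4, 5, 4, 5, 4, 2, 4, 3, 1, 5, 1, 2, 1, 2, 1, 2, 1, 2, 4, 5, 4, 5, 4, 5, 4, 5, 4, 2, 4, 6] 0 11 = true := by decide +kernel

theorem rel11 : T.rel 11 [1, 5, 1, 2, 1, 2, 1, 2, 1, 5, 1, 2, 4, 5, 4, 5, 4, 5, 4, 2, 4, 3, 1, 5, 1, 2, 1, 2, 1, 2, 1, 5, 4, 2, 4, 5, 4, 5, 4, 5, 4, 2, 4, 6] 0 11 = true := by decide +kernel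

theorem rel12 : T.rel 11 [5, 1, 5, 1, 2, 1, 5, 1, 2, 1, 5, 1, 5, 1, 5, 1, 2, 1, 5, 1, 2, 1, 3, 4, 5, 4, 2, 4, 5, 4, 2, 4, 2, 4, 2, 4, 5, 4, 2, 4, 5, 4, 2, 2, 1, 2, 1, 2, 1, 5, 1, 5, 1, 5, 1, 5, 1, 2, 1, 2, 1, 2, 1, 5, 1, 2, 1, 5, 1, 5, 1, 5, 1, 5, 1, 2, 1, 2, 1, 2, 3, 5, 4, 5, 4, 5, 4, 2, 4, 2, 4, 2, 4, 2, 4, 5, 4, 2, 4, 5, 4, 5, 4, 5, 4, 2, 4, 2, 4, 2, 4, 2, 4, 5, 4, 5, 4, 5, 4, 2, 3] 0 11 = true := by decide +kernel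

end Cfsg.Agent.Spor.J4T
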